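import Groth.Agent.ChainQF9.Local

/-!
# Chains of good tuples
-/

set_option autoImplicit false
set_option linter.style.haveILetI false
set_option backward.isDefEq.respectTransparency false
universe u

open CategoryTheory AlgebraicGeometry IsLocalRing Relation

namespace Groth.Agent.ChainQF9

theorem exists_seq {α : Type u} {r : α → α → Prop} {a b : α} (h : ReflTransGen r a b) :
    ∃ (n : ℕ) (w : Fin (n + 1) → α), w 0 = a ∧ w (Fin.last n) = b ∧
      ∀ j : Fin n, r (w j.castSucc) (w j.succ) := by
  induction h with
  | refl => exact ⟨0, fun _ => a, rfl, rfl, fun j => Fin.elim0 j⟩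
  | @tail b c _ hbc ih =>
    obtain ⟨n, w, h0, hl, hs⟩ := ih
    refine ⟨n + 1, Fin.snoc w c, ?_, by simp, fun j => ?_⟩
    · rw [← Fin.castSucc_zero, Fin.snoc_castSucc, h0]
    · induction j using Fin.lastCases with
      | last => simpa [hl] using hbc
      | cast j =>
        rw [Fin.succ_castSucc, Fin.snoc_castSucc, Fin.snoc_castSucc]
        exact hs j

variable {k B : Type u} [Field k] [CommRing B] [Algebra k B] [Algebra.FiniteType k B]
  {ι : Type u} [Finite ι] [Nonempty ι] (m : Ideal B) [m.IsMaximal]

/-- Two good tuples which differ, near the point, in at most one entry. -/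
def Rel (c c' : ι → B) : Prop :=
  Good (k := k) c ⟨m, inferInstance⟩ ∧ Good (k := k) c' ⟨m, inferInstance⟩ ∧
    ∃ i, ∀ i', i' ≠ i →
      algebraMap B (Localization.AtPrime m) (c i') = algebraMap B (Localization.AtPrime m) (c' i')

open Classical in
/-- A numerator of an element of the local ring. -/
noncomputable def num (w : Localization.AtPrime m) : B :=
  if h : ∃ b, algebraMap B (Localization.AtPrime m) b = w then h.choose
  else (IsLocalization.surj m.primeCompl w).choose.1

theorem num_algebraMap (b : B) :
    algebraMap B (Localization.AtPrime m) (num m (algebraMap B (Localization.AtPrime m) b)) =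
      algebraMap B _ b := by
  have h : ∃ b', algebraMap B (Localization.AtPrime m) b' = algebraMap B _ b := ⟨b, rfl⟩
  rw [num, dif_pos h]
  exact h.choose_spec

theorem associated_num (w : Localization.AtPrime m) :
    Associated w (algebraMap B (Localization.AtPrime m) (num m w)) := by
  unfold num
  split
  next h => rw [h.choose_spec]
  next h =>
    obtain hs := (IsLocalization.surj m.primeCompl w).choose_spec
    exact ⟨(IsLocalization.map_units (Localization.AtPrime m)
      (IsLocalization.surj m.primeCompl w).choose.2).unit, hs⟩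

theorem reflTransGen [LocCoh.IsCohenMacaulayLocalRing (Localization.AtPrime m)]
    (hk : Function.Surjective (algebraMap k (B ⧸ m)))
    (u v : ι → B) (hu : Good (k := k) u ⟨m, inferInstance⟩) (hv : Good (k := k) v ⟨m, inferInstance⟩) :
    ReflTransGen (Rel (k := k) m) u v := by
  classical
  haveI : IsNoetherianRing B := Algebra.FiniteType.isNoetherianRing k B
  let A := Localization.AtPrime m
  let d := Nat.card ι
  let e : ι ≃ Fin d := Finite.equivFin ι
  have point : ∀ c : ι → B, ∃ a : ι → k, ∀ i, c i - algebraMap k B (a i) ∈ m := by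
    intro c
    choose a ha using fun i => hk (Ideal.Quotient.mk m (c i))
    refine ⟨a, fun i => ?_⟩
    rw [← Ideal.Quotient.eq_zero_iff_mem, map_sub, sub_eq_zero, Ideal.Quotient.mk_algebraMap]
    exact (ha i).symm
  obtain ⟨a, ha⟩ := point u
  obtain ⟨b, hb⟩ := point v
  obtain ⟨hau, hdim⟩ := (good_iff m d rfl u a ha).1 hu
  obtain ⟨hbv, -⟩ := (good_iff m d rfl v b hb).1 hv
  let x : Fin d → A := fun j => algebraMap B A (u (e.symm j) - algebraMap k B (a (e.symm j)))
  let y : Fin d → A := fun j => algebraMap B A (v (e.symm j) - algebraMap k B (b (e.symm j)))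
  have mem : ∀ z : B, z ∈ m → algebraMap B A z ∈ maximalIdeal A := fun z hz => by
    rw [← Localization.AtPrime.map_eq_maximalIdeal]; exact Ideal.mem_map_of_mem _ hz
  have hx : CAlgH.SopChain.IsSop (⊥ : Ideal A) x := by
    refine ⟨fun j => mem _ (ha _), ?_⟩
    rw [bot_sup_eq]
    refine hau.2.trans (Ideal.radical_mono (Ideal.span_mono ?_))
    rintro _ ⟨i, rfl⟩
    exact ⟨e i, by simp [x]; rfl⟩
  have hy : CAlgH.SopChain.IsSop (⊥ : Ideal A) y := by
    refine ⟨fun j => mem _ (hb _), ?_⟩
    rw [bot_sup_eq]
    refine hbv.2.trans (Ideal.radical_mono (Ideal.span_mono ?_))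
    rintro _ ⟨i, rfl⟩
    exact ⟨e i, by simp [y]; rfl⟩
  let T : (ι → k) → (Fin d → A) → (ι → B) := fun a' z i => num m (z (e i)) + algebraMap k B (a' i)
  have good : ∀ (a' : ι → k) (z : Fin d → A), CAlgH.SopChain.IsSop (⊥ : Ideal A) z →
      Good (k := k) (T a' z) ⟨m, inferInstance⟩ := by
    intro a' z ⟨hz, hz'⟩
    have hT : ∀ i, T a' z i - algebraMap k B (a' i) = num m (z (e i)) := fun i => by simp [T]
    have hmem : ∀ i, num m (z (e i)) ∈ m := fun i => by
      refine (Localization.AtPrime.under_maximalIdeal (I := m)).le ?_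
      rw [Ideal.under, Ideal.mem_comap]
      obtain ⟨w, hw⟩ := associated_num m (z (e i))
      rw [← hw]
      exact Ideal.mul_mem_right _ _ (hz _)
    refine (good_iff m d rfl _ a' (fun i => (hT i).symm ▸ hmem i)).2
      ⟨⟨fun i => (hT i).symm ▸ hmem i, ?_⟩, hdim⟩
    rw [bot_sup_eq] at hz'
    refine hz'.trans (Ideal.radical_mono (Ideal.span_le.2 ?_))
    rintro _ ⟨j, rfl⟩
    obtain ⟨w, hw⟩ := (associated_num m (z j)).symm
    rw [← hw]
    refine Ideal.mul_mem_right _ _ (Ideal.subset_span ⟨e.symm j, ?_⟩)
    simp [hT]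
  have one : ∀ (c c' : ι → B), Good (k := k) c ⟨m, inferInstance⟩ → Good (k := k) c' ⟨m, inferInstance⟩ →
      (∀ i, algebraMap B A (c i) = algebraMap B A (c' i)) → ReflTransGen (Rel (k := k) m) c c' :=
    fun c c' h h' h'' => .single ⟨h, h', Classical.arbitrary ι, fun i _ => h'' i⟩
  have s1 : ReflTransGen (Rel (k := k) m) u (T a x) :=
    one _ _ hu (good a x hx) fun i => by
      simp only [T, map_add, x]
      rw [num_algebraMap, e.symm_apply_apply]
      simp [A]
  have s4 : ReflTransGen (Rel (k := k) m) (T b y) v :=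
    one _ _ (good b y hy) hv fun i => by
      simp only [T, map_add, y]
      rw [num_algebraMap, e.symm_apply_apply]
      simp [A]
  have s2 : ReflTransGen (Rel (k := k) m) (T a x) (T a y) := by
    refine ReflTransGen.lift (T a) (fun z z' h => ?_) _ _ (CAlgH.SopChain.reflTransGen d ⊥ bot_le
      (fun f hf z => CAlgH.SopChain.not_isSop_bot_of_lt hdim hf z) x y hx hy)
    obtain ⟨hz, hz', j, hj⟩ := h
    refine ⟨good a z hz, good a z' hz', e.symm j, fun i hi => ?_⟩
    simp only [T]
    rw [hj (e i) fun he => hi (by rw [← he, e.symm_apply_apply])]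
  have s3 : ReflTransGen (Rel (k := k) m) (T a y) (T b y) := by
    haveI := Fintype.ofFinite ι
    have step : ∀ S : Finset ι, ReflTransGen (Rel (k := k) m) (T a y) (T (S.piecewise b a) y) := by
      intro S
      induction S using Finset.induction_on with
      | empty => rw [Finset.piecewise_empty]
      | @insert i S hi ih =>
        refine ih.tail ⟨good _ _ hy, good _ _ hy, i, fun i' hi' => ?_⟩
        simp only [T]
        rw [Finset.piecewise_insert, Function.update_of_ne hi']
    simpa [Finset.piecewise_univ] using step Finset.univ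
  exact ((s1.trans s2).trans s3).trans s4

end Groth.Agent.ChainQF9
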