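import Groth.Agent.CAlgH3.MiracleFlat
import Groth.Agent.CAlgH.SopChain
import Groth.Agent.DimLib.Algebra
import Mathlib.AlgebraicGeometry.Morphisms.QuasiFinite
import Mathlib.AlgebraicGeometry.Morphisms.Flat
import Mathlib.AlgebraicGeometry.ZariskisMainTheorem
import Mathlib.RingTheory.Jacobson.Ring
import Mathlib.RingTheory.MvPolynomial.Basic
import Mathlib.RingTheory.RegularLocalRing.Polynomial
import Mathlib.FieldTheory.IsAlgClosed.Basic

/-!
# Maps to affine space which are flat and quasi-finite at a rational point

For a finite type algebra `B` over a field and a maximal ideal with residue field `k` at which `B`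
is Cohen-Macaulay of dimension `d`, a `d`-tuple gives a morphism to affine space which is flat and
quasi-finite at the point iff the translated tuple is a system of parameters.
-/

set_option autoImplicit false
set_option linter.style.haveILetI false
set_option backward.isDefEq.respectTransparency false
universe u

open CategoryTheory AlgebraicGeometry IsLocalRing

namespace Groth.Agent.ChainQF9

variable {k B : Type u} [Field k] [CommRing B] [Algebra k B] {ι : Type u} [Finite ι]

/-- The ring homomorphism of a tuple. -/
noncomputable def phi (c : ι → B) : CommRingCat.of (MvPolynomial ι k) ⟶ CommRingCat.of B :=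
  CommRingCat.ofHom (MvPolynomial.aeval c).toRingHom

/-- The morphism is flat and quasi-finite at the point. -/
def Good (c : ι → B) (P : PrimeSpectrum B) : Prop :=
  ((Spec.map (phi (k := k) c)).stalkMap P).hom.Flat ∧ (Spec.map (phi (k := k) c)).QuasiFiniteAt P

variable (m : Ideal B) [m.IsMaximal]

/-- The translated tuple is a system of parameters at `m`. -/
def Param (c : ι → B) (a : ι → k) : Prop :=
  (∀ i, c i - algebraMap k B (a i) ∈ m) ∧
    maximalIdeal (Localization.AtPrime m) ≤ (Ideal.span (Set.range fun i =>
      algebraMap B (Localization.AtPrime m) (c i - algebraMap k B (a i)))).radical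

omit [Finite ι] in
theorem comap_eq_span (c : ι → B) (a : ι → k) (h : ∀ i, c i - algebraMap k B (a i) ∈ m) :
    m.comap (MvPolynomial.aeval c).toRingHom =
      Ideal.span (Set.range fun i => MvPolynomial.X i - MvPolynomial.C (a i)) := by
  set I := Ideal.span (Set.range fun i => MvPolynomial.X i - MvPolynomial.C (R := k) (a i))
  have hI : I ≤ m.comap (MvPolynomial.aeval c).toRingHom := by
    refine Ideal.span_le.2 ?_
    rintro _ ⟨i, rfl⟩
    simpa using h i
  refine le_antisymm (fun f hf => ?_) hI
  have hsub : f - MvPolynomial.C (MvPolynomial.eval a f) ∈ I := by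
    clear hf
    induction f using MvPolynomial.induction_on with
    | C r => simp
    | add p q hp hq =>
      rw [map_add, map_add, add_sub_add_comm]
      exact I.add_mem hp hq
    | mul_X p i hp =>
      rw [map_mul, MvPolynomial.eval_X, map_mul,
        show p * MvPolynomial.X i - MvPolynomial.C (MvPolynomial.eval a p) * MvPolynomial.C (a i) =
          (p - MvPolynomial.C (MvPolynomial.eval a p)) * MvPolynomial.X i +
            MvPolynomial.C (MvPolynomial.eval a p) * (MvPolynomial.X i - MvPolynomial.C (a i)) by ring]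
      exact I.add_mem (I.mul_mem_right _ hp)
        (I.mul_mem_left _ (Ideal.subset_span ⟨i, rfl⟩))
  have h0 : algebraMap k B (MvPolynomial.eval a f) ∈ m := by
    have h1 := Ideal.mem_comap.1 (hI hsub)
    have h2 : (MvPolynomial.aeval c).toRingHom f ∈ m := hf
    rw [map_sub] at h1
    have h3 := m.sub_mem h2 h1
    simpa using h3
  have h4 : MvPolynomial.eval a f = 0 := by
    by_contra hne
    exact (Ideal.IsPrime.ne_top inferInstance) (Ideal.eq_top_of_isUnit_mem m h0 ((IsUnit.mk0 _ hne).map _))
  simpa [h4] using hsub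

omit [Finite ι] in
theorem isMaximal_span (c : ι → B) (a : ι → k) (h : ∀ i, c i - algebraMap k B (a i) ∈ m) :
    (m.comap (MvPolynomial.aeval (R := k) c).toRingHom).IsMaximal := by
  rw [comap_eq_span m c a h]
  have : Ideal.span (Set.range fun i => MvPolynomial.X i - MvPolynomial.C (R := k) (a i)) =
      RingHom.ker (MvPolynomial.aeval (R := k) a).toRingHom := by
    rw [RingHom.ker_eq_comap_bot]
    haveI : (⊥ : Ideal k).IsMaximal := Ideal.bot_isMaximal
    exact (comap_eq_span (B := k) ⊥ a a (fun i => by simp)).symm
  rw [this]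
  exact RingHom.ker_isMaximal_of_surjective _ fun x => ⟨MvPolynomial.C x, by simp⟩

theorem height_mvPolynomial (d : ℕ) (hd : Nat.card ι = d) (p : Ideal (MvPolynomial ι k)) [p.IsMaximal] :
    p.height = d := by
  let e := (MvPolynomial.renameEquiv k ((Finite.equivFin ι).trans (finCongr hd))).toRingEquiv
  rw [← e.height_map p]
  haveI : (p.map e).IsMaximal := Ideal.map_isMaximal_of_equiv e
  exact DimLib.height_eq_of_isMaximal_mvPolynomial d _

theorem dim_quotient_zero {R : Type u} [CommRing R] [IsLocalRing R] (I : Ideal R)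
    (hI : I ≤ maximalIdeal R) (h : maximalIdeal R ≤ I.radical) : ringKrullDim (R ⧸ I) = 0 := by
  haveI : Nontrivial (R ⧸ I) := Ideal.Quotient.nontrivial_iff.2
    (ne_top_of_le_ne_top (maximalIdeal.isMaximal R).ne_top hI)
  haveI : Ring.KrullDimLE 0 (R ⧸ I) := by
    refine Ring.krullDimLE_zero_iff.2 fun Q hQ => ?_
    haveI : (Q.comap (Ideal.Quotient.mk I)).IsPrime := Ideal.comap_isPrime _ _
    have h1 : Q.comap (Ideal.Quotient.mk I) = maximalIdeal R := by
      refine le_antisymm (le_maximalIdeal (Ideal.IsPrime.ne_top inferInstance)) (h.trans ?_)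
      refine (Ideal.IsPrime.radical_le_iff inferInstance).2 fun x hx => ?_
      rw [Ideal.mem_comap, Ideal.Quotient.eq_zero_iff_mem.2 hx]
      exact Q.zero_mem
    rw [← Ideal.map_comap_of_surjective _ Ideal.Quotient.mk_surjective Q, h1]
    exact Ideal.map_eq_top_or_isMaximal_of_surjective _ Ideal.Quotient.mk_surjective inferInstance
      |>.resolve_left (fun ht => hQ.ne_top (by
        rw [← Ideal.map_comap_of_surjective _ Ideal.Quotient.mk_surjective Q, h1, ht]))
  exact ringKrullDimZero_iff_ringKrullDim_eq_zero.1 inferInstance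

variable [Algebra.FiniteType k B]

theorem good_iff (d : ℕ) (hd : Nat.card ι = d)
    [hCM : LocCoh.IsCohenMacaulayLocalRing (Localization.AtPrime m)]
    (c : ι → B) (a : ι → k) (ha : ∀ i, c i - algebraMap k B (a i) ∈ m) :
    Good (k := k) c ⟨m, inferInstance⟩ ↔
      (Param m c a ∧ ringKrullDim (Localization.AtPrime m) = d) := by
  haveI : IsNoetherianRing B := Algebra.FiniteType.isNoetherianRing k B
  letI : Algebra (MvPolynomial ι k) B := (MvPolynomial.aeval c).toRingHom.toAlgebra
  haveI : IsScalarTower k (MvPolynomial ι k) B :=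
    IsScalarTower.of_algebraMap_eq fun x => ((MvPolynomial.aeval c).commutes x).symm
  haveI : Algebra.FiniteType (MvPolynomial ι k) B := .of_restrictScalars_finiteType k _ _
  set R := MvPolynomial ι k
  set p := m.under R with hp
  haveI hpm : p.IsMaximal := isMaximal_span m c a ha
  haveI : m.LiesOver p := ⟨rfl⟩
  letI := Localization.AtPrime.algebraOfLiesOver p m
  set Rp := Localization.AtPrime p
  set Bm := Localization.AtPrime m
  haveI : IsRegularLocalRing Rp := inferInstance
  haveI : IsLocalHom (algebraMap Rp Bm) := by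
    rw [RingHom.algebraMap_toAlgebra]
    exact Localization.isLocalHom_localRingHom _ _ _ _
  have hdimR : ringKrullDim Rp = d := by
    rw [IsLocalization.AtPrime.ringKrullDim_eq_height p Rp, height_mvPolynomial d hd p]
    rfl
  have hmap : (maximalIdeal Rp).map (algebraMap Rp Bm) =
      Ideal.span (Set.range fun i => algebraMap B Bm (c i - algebraMap k B (a i))) := by
    rw [← Localization.AtPrime.map_eq_maximalIdeal, Ideal.map_map,
      ← IsScalarTower.algebraMap_eq, IsScalarTower.algebraMap_eq R B Bm, ← Ideal.map_map,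
      hp, Ideal.under, RingHom.algebraMap_toAlgebra, comap_eq_span m c a ha, Ideal.map_span,
      Ideal.map_span, ← Set.range_comp, ← Set.range_comp]
    congr 2
    funext i
    simp
    exact congrArg₂ (· - ·) (congrArg _ (MvPolynomial.aeval_X c i))
      (congrArg _ (MvPolynomial.aeval_C c (a i)))
  have hle : (maximalIdeal Rp).map (algebraMap Rp Bm) ≤ maximalIdeal Bm :=
    ((local_hom_TFAE (algebraMap Rp Bm)).out 0 2 :).mp inferInstance
  have hstalk : Good (k := k) c ⟨m, inferInstance⟩ ↔
      (Module.Flat Rp Bm ∧ Algebra.QuasiFiniteAt R m) := by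
    refine and_congr ?_ ?_
    · rw [RingHom.Flat.respectsIso.arrow_mk_iso_iff (Scheme.arrowStalkMapSpecIso _ _)]
      exact RingHom.flat_algebraMap_iff (R := Rp) (S := Bm)
    · unfold Scheme.Hom.QuasiFiniteAt
      rw [RingHom.QuasiFinite.respectsIso.arrow_mk_iso_iff (Scheme.arrowStalkMapSpecIso _ _)]
      refine Iff.trans (RingHom.quasiFinite_algebraMap (R := Rp) (S := Bm)) ⟨fun _ => ?_, fun _ => ?_⟩
      · haveI : Algebra.QuasiFinite R Rp := .of_isLocalization p.primeCompl
        exact .trans R Rp Bm
      · exact .of_restrictScalars R Rp Bm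
  rw [hstalk]
  constructor
  · rintro ⟨hflat, hqf⟩
    have hrad : maximalIdeal Bm ≤
        (Ideal.span (Set.range fun i => algebraMap B Bm (c i - algebraMap k B (a i)))).radical := by
      rw [← hmap, Ideal.radical_eq_sInf]
      refine le_sInf fun Q ⟨hQ, hQp⟩ => ?_
      haveI := hQp
      set P := Q.under B
      haveI : P.IsPrime := inferInstanceAs (Q.under B).IsPrime
      have hPm : P ≤ m := by
        rw [← Localization.AtPrime.under_maximalIdeal (I := m)]
        exact Ideal.comap_mono (le_maximalIdeal hQp.ne_top)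
      have hPp : P.under R = p := by
        refine le_antisymm (Ideal.comap_mono hPm) ?_
        intro x hx
        show algebraMap B Bm (algebraMap R B x) ∈ Q
        rw [← IsScalarTower.algebraMap_apply, IsScalarTower.algebraMap_apply R Rp Bm]
        refine hQ (Ideal.mem_map_of_mem _ ?_)
        rw [← Localization.AtPrime.map_eq_maximalIdeal]
        exact Ideal.mem_map_of_mem _ hx
      have hPeq : P = m := Algebra.QuasiFiniteAt.eq_of_le_of_under_eq hPm (hPp.trans hp)
      rw [← Localization.AtPrime.map_eq_maximalIdeal (I := m)]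
      exact Ideal.map_le_iff_le_comap.2 hPeq.ge
    refine ⟨⟨ha, hrad⟩, ?_⟩
    haveI : (maximalIdeal Bm).LiesOver (maximalIdeal Rp) :=
      ⟨(IsLocalRing.maximalIdeal_comap (algebraMap Rp Bm)).symm⟩
    rw [← maximalIdeal_height_eq_ringKrullDim,
      Ideal.height_eq_height_add_of_liesOver_of_hasGoingDown (maximalIdeal Rp) (maximalIdeal Bm)]
    have h0 : ((maximalIdeal Bm).map (Ideal.Quotient.mk ((maximalIdeal Rp).map (algebraMap Rp Bm)))).height = 0 := by
      haveI : IsLocalRing (Bm ⧸ (maximalIdeal Rp).map (algebraMap Rp Bm)) :=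
        haveI : Nontrivial (Bm ⧸ (maximalIdeal Rp).map (algebraMap Rp Bm)) :=
          Ideal.Quotient.nontrivial_iff.2 (ne_top_of_le_ne_top (maximalIdeal.isMaximal Bm).ne_top hle)
        .of_surjective' _ Ideal.Quotient.mk_surjective
      rw [IsLocalRing.map_maximalIdeal_of_surjective _ Ideal.Quotient.mk_surjective]
      have h1 := (maximalIdeal_height_eq_ringKrullDim
        (R := Bm ⧸ (maximalIdeal Rp).map (algebraMap Rp Bm))).trans
          (dim_quotient_zero _ hle (hmap ▸ hrad))
      exact_mod_cast h1
    rw [h0, add_zero, maximalIdeal_height_eq_ringKrullDim, hdimR]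
  · rintro ⟨⟨-, hrad⟩, hdim⟩
    rw [← hmap] at hrad
    refine ⟨CAlgH3.flat_of_dim_eq _ Rp rfl Bm ?_, ?_⟩
    · rw [dim_quotient_zero _ hle hrad, add_zero, hdimR, hdim]
    · classical
      let I : Ideal B := p.map (algebraMap R B)
      have hIm : I ≤ m := Ideal.map_comap_le
      have hIq : ∀ q : Ideal B, q.IsPrime → I ≤ q → q ≤ m → q = m := by
        intro q hq hIq hqm
        haveI := hq
        haveI := Ideal.isPrime_map_of_isLocalizationAtPrime (q := m) (S := Bm) (p := q) hqm
        have h1 : maximalIdeal Bm ≤ q.map (algebraMap B Bm) := by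
          refine hrad.trans ((Ideal.IsPrime.radical_le_iff inferInstance).2 ?_)
          rw [← Localization.AtPrime.map_eq_maximalIdeal, Ideal.map_map,
            ← IsScalarTower.algebraMap_eq, IsScalarTower.algebraMap_eq R B Bm, ← Ideal.map_map]
          exact Ideal.map_mono hIq
        refine le_antisymm hqm ?_
        rw [← Localization.AtPrime.under_maximalIdeal (I := m),
          ← Ideal.under_map_of_isLocalizationAtPrime m hqm (S := Bm)]
        exact Ideal.comap_mono h1
      have hfin := I.finite_minimalPrimes_of_isNoetherianRing B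
      let T := hfin.toFinset.erase m
      have hT : ¬ (T.inf id ≤ m) := by
        intro hle'
        obtain ⟨P, hP, hPm⟩ := (Ideal.IsPrime.inf_le' inferInstance).1 hle'
        rw [Finset.mem_erase, Set.Finite.mem_toFinset] at hP
        exact hP.1 (hIq P hP.2.1.1 hP.2.1.2 hPm)
      obtain ⟨s, hs, hsm⟩ := SetLike.not_le_iff_exists.1 hT
      refine Algebra.QuasiFiniteAt.of_isOpen_singleton_fiber (R := R) (⟨m, inferInstance⟩ : PrimeSpectrum B) ?_
      refine ⟨(PrimeSpectrum.basicOpen s : Set (PrimeSpectrum B)), (PrimeSpectrum.basicOpen s).isOpen, ?_⟩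
      ext ⟨q, hq⟩
      simp only [Set.mem_preimage, SetLike.mem_coe, PrimeSpectrum.mem_basicOpen,
        Set.mem_singleton_iff, Subtype.mk.injEq]
      constructor
      · intro hsq
        have hIq' : I ≤ q.asIdeal := by
          refine Ideal.map_le_iff_le_comap.2 ?_
          exact (congrArg PrimeSpectrum.asIdeal hq).ge
        obtain ⟨P, hP, hPq⟩ := Ideal.exists_minimalPrimes_le hIq'
        have hPm : P = m := by
          by_contra hne
          exact hsq (hPq ((Finset.inf_le (f := id) (Finset.mem_erase.2 ⟨hne, hfin.mem_toFinset.2 hP⟩)) hs))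
        exact PrimeSpectrum.ext ((Ideal.IsMaximal.eq_of_le inferInstance q.isPrime.ne_top (hPm ▸ hPq)).symm)
      · rintro rfl
        exact hsm

end Groth.Agent.ChainQF9
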